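import Groth.Agent.CohLin.Basic
import Mathlib.RingTheory.Length
import Mathlib.RingTheory.HopkinsLevitzki
import Mathlib.LinearAlgebra.Dimension.RankNullity
import Mathlib.LinearAlgebra.FiniteDimensional.Lemmas

/-!
# Lengths and dimensions along the long exact cohomology sequence
-/

set_option autoImplicit false

universe u

open CategoryTheory Limits AlgebraicGeometry

noncomputable section

namespace Groth.Agent.EulerLES

variable {X : Scheme.{u}} {S : ShortComplex X.Modules} (hS : S.ShortExact)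

include hS in
/-- `H^0` is left exact -/
theorem hMap_zero_injective : Function.Injective (CohLin.hMap S.f 0) := by
  have := (CohLin.shortExact_abSeq hS).mono_f
  exact Abelian.Ext.postcomp_mk₀_injective_of_mono (CohLin.cst X) (CohLin.abMap S.f)

variable (A : Type u) [CommRing A] [X.Over (Spec (CommRingCat.of A))]

include hS in
theorem exact_f_g (n : ℕ) : Function.Exact (CohLin.overLin A (CohLin.hMap S.f n))
    (CohLin.overLin A (CohLin.hMap S.g n)) := fun x => by
  refine ⟨fun hx => ?_, ?_⟩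
  · obtain ⟨y, hy⟩ := CohLin.exists_hMap_f_eq hS x hx
    exact ⟨y, hy⟩
  · rintro ⟨y, rfl⟩
    exact CohLin.hMap_g_hMap_f y

theorem exact_g_δ (n : ℕ) : Function.Exact (CohLin.overLin A (CohLin.hMap S.g n))
    (CohLin.overLin A (CohLin.hδ hS n)) := fun x => by
  refine ⟨fun hx => ?_, ?_⟩
  · obtain ⟨y, hy⟩ := CohLin.exists_hMap_g_eq hS x hx
    exact ⟨y, hy⟩
  · rintro ⟨y, rfl⟩
    exact CohLin.hδ_hMap_g hS y

theorem exact_δ_f (n : ℕ) : Function.Exact (CohLin.overLin A (CohLin.hδ hS n))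
    (CohLin.overLin A (CohLin.hMap S.f (n + 1))) := fun x => by
  refine ⟨fun hx => ?_, ?_⟩
  · obtain ⟨y, hy⟩ := CohLin.exists_hδ_eq hS x hx
    exact ⟨y, hy⟩
  · rintro ⟨y, rfl⟩
    exact CohLin.hMap_f_hδ hS y

section Length

variable {A}

/-- length of a finite module over an Artinian ring, as an integer -/
def ℓ (A : Type u) [CommRing A] (M : Type u) [AddCommGroup M] [Module A M] : ℤ :=
  ((Module.length A M).toNat : ℤ)

theorem ℓ_eq_add [IsArtinianRing A] {M N P : Type u} [AddCommGroup M] [AddCommGroup N]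
    [AddCommGroup P] [Module A M] [Module A N] [Module A P] [Module.Finite A N]
    (f : M →ₗ[A] N) (g : N →ₗ[A] P) (h : Function.Exact f g) :
    ℓ A N = ℓ A (LinearMap.range f) + ℓ A (LinearMap.range g) := by
  have hex : Function.Exact (LinearMap.range f).subtype g.rangeRestrict := fun x => by
    change g.rangeRestrict x = 0 ↔ _
    refine ⟨fun hx => ?_, ?_⟩
    · obtain ⟨y, hy⟩ := (h x).1 (congrArg Subtype.val hx)
      exact ⟨⟨x, y, hy⟩, rfl⟩
    · rintro ⟨⟨_, y, rfl⟩, rfl⟩
      exact Subtype.ext ((h _).2 ⟨y, rfl⟩)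
  have e := Module.length_eq_add_of_exact _ _ (Submodule.subtype_injective _)
    g.surjective_rangeRestrict hex
  have : Module.Finite A (LinearMap.range g) := Module.Finite.range g
  rw [ℓ, ℓ, ℓ, e, ENat.toNat_add Module.length_ne_top Module.length_ne_top]
  push_cast
  rfl

theorem ℓ_range_of_injective {M N : Type u} [AddCommGroup M] [AddCommGroup N] [Module A M]
    [Module A N] (f : M →ₗ[A] N) (hf : Function.Injective f) : ℓ A M = ℓ A (LinearMap.range f) :=
  congrArg (fun m : ℕ∞ => (m.toNat : ℤ)) (LinearEquiv.ofInjective f hf).length_eq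

theorem ℓ_eq_zero {M : Type u} [AddCommGroup M] [Module A M] [Subsingleton M] : ℓ A M = 0 := by
  rw [ℓ, Module.length_eq_zero]
  rfl

end Length

include hS in
/-- additivity of the Euler characteristic, if `H^(N+1)` of the first module vanishes -/
theorem sum_neg_one_pow_ℓ [IsArtinianRing A] (N : ℕ) [Subsingleton (Coh.HH X S.X₁ (N + 1))]
    (h₁ : ∀ n, Module.Finite A (Coh.HH X S.X₁ n)) (h₂ : ∀ n, Module.Finite A (Coh.HH X S.X₂ n))
    (h₃ : ∀ n, Module.Finite A (Coh.HH X S.X₃ n)) :
    (∑ i ∈ Finset.range (N + 1), (-1 : ℤ) ^ i * ℓ A (Coh.HH X S.X₂ i)) =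
      (∑ i ∈ Finset.range (N + 1), (-1 : ℤ) ^ i * ℓ A (Coh.HH X S.X₁ i)) +
        ∑ i ∈ Finset.range (N + 1), (-1 : ℤ) ^ i * ℓ A (Coh.HH X S.X₃ i) := by
  let d : ℕ → ℤ := fun n => ℓ A (LinearMap.range (CohLin.overLin A (CohLin.hδ hS n)))
  have e : ∀ m, (∑ i ∈ Finset.range (m + 1), (-1 : ℤ) ^ i * ℓ A (Coh.HH X S.X₁ i)) +
      (∑ i ∈ Finset.range (m + 1), (-1 : ℤ) ^ i * ℓ A (Coh.HH X S.X₃ i)) -
      (∑ i ∈ Finset.range (m + 1), (-1 : ℤ) ^ i * ℓ A (Coh.HH X S.X₂ i)) = (-1) ^ m * d m := by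
    intro m
    induction m with
    | zero =>
      have := h₁ 0; have := h₂ 0; have := h₃ 0
      simp only [zero_add, Finset.sum_range_one, pow_zero, one_mul, d]
      rw [ℓ_eq_add _ _ (exact_f_g hS A 0), ℓ_eq_add _ _ (exact_g_δ hS A 0),
        ℓ_range_of_injective (CohLin.overLin A (CohLin.hMap S.f 0)) (hMap_zero_injective hS)]
      ring
    | succ m ih =>
      have := h₁ (m + 1); have := h₂ (m + 1); have := h₃ (m + 1)
      have a := ℓ_eq_add _ _ (exact_f_g hS A (m + 1))
      have b := ℓ_eq_add _ _ (exact_g_δ hS A (m + 1))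
      have c := ℓ_eq_add _ _ (exact_δ_f hS A m)
      simp only [Finset.sum_range_succ _ (m + 1), d] at ih ⊢
      rw [a, b, c, pow_succ]
      linear_combination ih
  have h0 : d N = 0 :=
    have : Subsingleton (LinearMap.range (CohLin.overLin A (CohLin.hδ hS N))) :=
      Function.Injective.subsingleton (Subtype.val_injective)
    ℓ_eq_zero
  have := e N
  rw [h0, mul_zero] at this
  linarith

end Groth.Agent.EulerLES

end
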