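import Groth.Agent.EulerLES.Basic

/-!
# Bounds on the dimensions of cohomology along long exact sequences
-/

set_option autoImplicit false

universe u

open CategoryTheory Limits AlgebraicGeometry

noncomputable section

namespace Groth.Agent.EulerLES

variable (k : Type u) [Field k]

theorem finrank_le_of_exact {U V W : Type u} [AddCommGroup U] [AddCommGroup V] [AddCommGroup W]
    [Module k U] [Module k V] [Module k W] [Module.Finite k U] [Module.Finite k V]
    [Module.Finite k W] (f : U →ₗ[k] V) (g : V →ₗ[k] W) (h : Function.Exact f g) :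
    Module.finrank k V ≤ Module.finrank k U + Module.finrank k W := by
  have e := LinearMap.finrank_range_add_finrank_ker g
  rw [LinearMap.exact_iff.1 h] at e
  have h₁ := LinearMap.finrank_range_le f
  have h₂ := Submodule.finrank_le (LinearMap.range g)
  omega

variable {X : Scheme.{u}} [X.Over (Spec (CommRingCat.of k))]

/-- the dimension of `H^n` -/
abbrev h (M : X.Modules) (n : ℕ) : ℕ := Module.finrank k (Coh.HH X M n)

/-- all `H^n` are finite dimensional -/
abbrev Fin' (M : X.Modules) : Prop := ∀ n, Module.Finite k (Coh.HH X M n)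

variable {S : ShortComplex X.Modules} (hS : S.ShortExact)

include hS in
theorem fin_X₁ (h₂ : Fin' k S.X₂) (n : ℕ) (h₃ : ∀ m, m + 1 = n → Module.Finite k (Coh.HH X S.X₃ m)) :
    Module.Finite k (Coh.HH X S.X₁ n) := by
  cases n with
  | zero =>
    have := h₂ 0
    exact Module.Finite.of_injective (CohLin.overLin k (CohLin.hMap S.f 0)) (hMap_zero_injective hS)
  | succ m =>
    have := h₂ (m + 1); have := h₃ m rfl
    exact CohLin.finite_X₁ hS k

include hS in
theorem h_X₁_zero_le (h₂ : Fin' k S.X₂) : h k S.X₁ 0 ≤ h k S.X₂ 0 :=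
  have := h₂ 0
  LinearMap.finrank_le_finrank_of_injective (f := CohLin.overLin k (CohLin.hMap S.f 0))
    (hMap_zero_injective hS)

include hS in
theorem h_X₁_succ_le (h₁ : Fin' k S.X₁) (h₂ : Fin' k S.X₂) (h₃ : Fin' k S.X₃) (n : ℕ) :
    h k S.X₁ (n + 1) ≤ h k S.X₃ n + h k S.X₂ (n + 1) :=
  have := h₁ (n + 1); have := h₂ (n + 1); have := h₃ n
  finrank_le_of_exact k _ _ (exact_δ_f hS k n)

include hS in
theorem h_X₂_le (h₁ : Fin' k S.X₁) (h₂ : Fin' k S.X₂) (h₃ : Fin' k S.X₃) (n : ℕ) :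
    h k S.X₂ n ≤ h k S.X₁ n + h k S.X₃ n :=
  have := h₁ n; have := h₂ n; have := h₃ n
  finrank_le_of_exact k _ _ (exact_f_g hS k n)

/-- the sum bounding `H^i` of the kernel of `C (j + 2) ⟶ C (j + 3)` -/
def bound (C : ℕ → X.Modules) : ℕ → ℕ → ℕ
  | 0, j => h k (C j) 0
  | i + 1, j => h k (C j) (i + 1) + bound C i (j + 1)

theorem bound_eq (C : ℕ → X.Modules) : ∀ i j : ℕ, bound k C i j =
    ∑ m ∈ Finset.range (i + 1), h k (C (j + m)) (i - m)
  | 0, j => by simp [bound]
  | i + 1, j => by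
    rw [Finset.sum_range_succ' _ (i + 1), bound, bound_eq C i (j + 1), add_comm]
    congr 1
    exact Finset.sum_congr rfl fun m _ => by rw [Nat.succ_sub_succ, add_right_comm, add_assoc j]

section Mk

variable {A B D : X.Modules} {f : A ⟶ B} {g : B ⟶ D} {w : f ≫ g = 0}
  (hmk : (ShortComplex.mk f g w).ShortExact)

include hmk in
theorem fin_left (h₂ : Fin' k B) (n : ℕ) (h₃ : ∀ m, m + 1 = n → Module.Finite k (Coh.HH X D m)) :
    Module.Finite k (Coh.HH X A n) :=
  fin_X₁ k hmk h₂ n h₃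

include hmk in
theorem h_left_zero_le (h₂ : Fin' k B) : h k A 0 ≤ h k B 0 := by
  have h₂' : Fin' k (ShortComplex.mk f g w).X₂ := h₂
  have := h_X₁_zero_le k hmk h₂'
  exact this

include hmk in
theorem h_left_succ_le (h₁ : Fin' k A) (h₂ : Fin' k B) (h₃ : Fin' k D) (n : ℕ) :
    h k A (n + 1) ≤ h k D n + h k B (n + 1) :=
  h_X₁_succ_le k hmk h₁ h₂ h₃ n

include hmk in
theorem h_middle_le (h₁ : Fin' k A) (h₂ : Fin' k B) (h₃ : Fin' k D) (n : ℕ) :
    h k B n ≤ h k A n + h k D n :=
  h_X₂_le k hmk h₁ h₂ h₃ n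

end Mk

section Sequence

variable (C : ℕ → X.Modules) (d : ∀ j, C j ⟶ C (j + 1)) (hd : ∀ j, d j ≫ d (j + 1) = 0)
  (hex : ∀ j, (ShortComplex.mk (d j) (d (j + 1)) (hd j)).Exact)

/-- `0 → Z_j → C_j → Z_{j+1} → 0` -/
def cyclesSeq (j : ℕ) : ShortComplex X.Modules :=
  ShortComplex.mk (kernel.ι (d j)) (kernel.lift (d (j + 1)) (d j) (hd j))
    (by rw [← cancel_mono (kernel.ι (d (j + 1))), Category.assoc, kernel.lift_ι, kernel.condition,
      zero_comp])

include hex in
theorem epi_lift (j : ℕ) : Epi (kernel.lift (d (j + 1)) (d j) (hd j)) :=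
  (hex j).epi_kernelLift

include hex in
theorem shortExact_cyclesSeq (j : ℕ) : (cyclesSeq C d hd j).ShortExact := by
  have := epi_lift C d hd hex j
  refine ShortComplex.ShortExact.mk (mono_f := ?_) (epi_g := this) ?_
  rotate_left
  · exact inferInstanceAs (Mono (kernel.ι (d j)))
  · let φ : cyclesSeq C d hd j ⟶ ShortComplex.mk (kernel.ι (d j)) (d j) (kernel.condition (d j)) :=
      { τ₁ := 𝟙 _, τ₂ := 𝟙 _, τ₃ := kernel.ι (d (j + 1))
        comm₁₂ := by simp [cyclesSeq]
        comm₂₃ := by simp [cyclesSeq] }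
    have : Epi φ.τ₁ := inferInstanceAs (Epi (𝟙 (kernel (d j))))
    have : IsIso φ.τ₂ := inferInstanceAs (IsIso (𝟙 (C j)))
    have : Mono φ.τ₃ := inferInstanceAs (Mono (kernel.ι (d (j + 1))))
    exact (ShortComplex.exact_iff_of_epi_of_isIso_of_mono φ).2
      (ShortComplex.exact_of_f_is_kernel _ (kernelIsKernel (d j)))

include hex in
theorem fin_cycles (hC : ∀ j, Fin' k (C j)) : ∀ i j : ℕ,
    Module.Finite k (Coh.HH X (kernel (d j)) i)
  | 0, j => fin_left k (shortExact_cyclesSeq C d hd hex j) (hC j) 0 (fun _ h => absurd h (by omega))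
  | i + 1, j => fin_left k (shortExact_cyclesSeq C d hd hex j) (hC j) (i + 1) fun m hm => by
      rw [show m = i by omega]; exact fin_cycles hC i (j + 1)

include hex in
theorem h_cycles_le (hC : ∀ j, Fin' k (C j)) : ∀ i j : ℕ, h k (kernel (d j)) i ≤ bound k C i j
  | 0, j => h_left_zero_le k (shortExact_cyclesSeq C d hd hex j) (hC j)
  | i + 1, j => by
    have := h_left_succ_le k (shortExact_cyclesSeq C d hd hex j)
      (fun n => fin_cycles k C d hd hex hC n j) (hC j)
      (fun n => fin_cycles k C d hd hex hC n (j + 1)) i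
    have := h_cycles_le hC i (j + 1)
    rw [bound]
    omega

/-- `0 → C_0 → C_1 → Z_2 → 0` -/
def firstSeq : ShortComplex X.Modules :=
  ShortComplex.mk (d 0) (kernel.lift (d 2) (d 1) (hd 1))
    (by rw [← cancel_mono (kernel.ι (d 2)), Category.assoc, kernel.lift_ι, hd 0, zero_comp])

include hex in
theorem shortExact_firstSeq [Mono (d 0)] : (firstSeq C d hd).ShortExact := by
  refine ShortComplex.ShortExact.mk (mono_f := ‹Mono (d 0)›) (epi_g := epi_lift C d hd hex 1) ?_
  let φ : firstSeq C d hd ⟶ ShortComplex.mk (d 0) (d 1) (hd 0) :=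
    { τ₁ := 𝟙 _, τ₂ := 𝟙 _, τ₃ := kernel.ι (d 2)
      comm₁₂ := by simp [firstSeq]
      comm₂₃ := (Category.id_comp _).trans (kernel.lift_ι (d 2) (d 1) (hd 1)).symm }
  have : Epi φ.τ₁ := inferInstanceAs (Epi (𝟙 (C 0)))
  have : IsIso φ.τ₂ := inferInstanceAs (IsIso (𝟙 (C 1)))
  have : Mono φ.τ₃ := inferInstanceAs (Mono (kernel.ι (d 2)))
  exact (ShortComplex.exact_iff_of_epi_of_isIso_of_mono φ).2 (hex 0)

include hex in
theorem h_zero_le [Mono (d 0)] (hC : ∀ j, Fin' k (C j)) :
    ∀ i : ℕ, h k (C 1) i ≤ h k (C 0) i + bound k C i 2 ∧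
      h k (C 0) i ≤ h k (C 1) i + if i = 0 then 0 else bound k C (i - 1) 2 := by
  intro i
  have hS := shortExact_firstSeq C d hd hex
  have hz : Fin' k (kernel (d 2)) := fun n => fin_cycles k C d hd hex hC n 2
  refine ⟨(h_middle_le k hS (hC 0) (hC 1) hz i).trans
    (Nat.add_le_add le_rfl (h_cycles_le k C d hd hex hC i 2)), ?_⟩
  cases i with
  | zero =>
    rw [if_pos rfl, add_zero]
    exact h_left_zero_le k hS (hC 1)
  | succ m =>
    rw [if_neg (Nat.succ_ne_zero m), Nat.succ_sub_one]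
    have := h_left_succ_le k hS (hC 0) (hC 1) hz m
    have := h_cycles_le k C d hd hex hC m 2
    simp only [Nat.add_eq, zero_add] at *
    omega

end Sequence

end Groth.Agent.EulerLES

end
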